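import Cfsg.Agent.H412.FC.BBridge
import Cfsg.Agent.H578.Base3

/-!
# S5764, B-PAR, lemma L2: three vectors of `A^⊥ / A` (helper762)
-/

set_option autoImplicit false

namespace Cfsg.Agent.H762.FC

open Cfsg.Agent.H198.FC Cfsg.Agent.H412.FC

universe u v

section perp

variable {K : Type u} [Field K] {V : Type v} [AddCommGroup V] [Module K V]

/-- the orthogonal complement -/
def perp (b : Cl K V) (W : Submodule K V) : Submodule K V where
  carrier := {v | ∀ w ∈ W, b.B v w = 0}
  add_mem' := fun {v v'} hv hv' w hw => by rw [b.add_left, hv w hw, hv' w hw, add_zero]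
  zero_mem' := fun w _ => B_zero_left b w
  smul_mem' := fun a v hv w hw => by rw [b.smul_left, hv w hw, mul_zero]

theorem mem_perp {b : Cl K V} {W : Submodule K V} {v : V} : v ∈ perp b W ↔ ∀ w ∈ W, b.B v w = 0 := Iff.rfl

theorem B_symm0 (b : Cl K V) {v w : V} (h : b.B v w = 0) : b.B w v = 0 := by
  rcases b.typ with h' | h'
  · rw [h'.2 v w, h, map_zero]
  · have h1 := h'.2 (v + w)
    rw [b.add_left, b.add_right, b.add_right, h'.2 v, h'.2 w, h] at h1
    simpa using h1

theorem B_sum_left (b : Cl K V) {ι : Type*} (s : Finset ι) (f : ι → V) (w : V) :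
    b.B (∑ i ∈ s, f i) w = ∑ i ∈ s, b.B (f i) w := by
  classical
  induction s using Finset.induction_on with
  | empty => simp [B_zero_left]
  | insert a s ha ih => rw [Finset.sum_insert ha, Finset.sum_insert ha, b.add_left, ih]

theorem B_sum_right (b : Cl K V) {ι : Type*} (s : Finset ι) (f : ι → V) (w : V) :
    b.B w (∑ i ∈ s, f i) = ∑ i ∈ s, b.B w (f i) := by
  classical
  induction s using Finset.induction_on with
  | empty => simp [B_zero_right]
  | insert a s ha ih => rw [Finset.sum_insert ha, Finset.sum_insert ha, b.add_right, ih]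

theorem finrank_perp [Module.Finite K V] (b : Cl K V) (W : Submodule K V) :
    Module.finrank K (perp b W) + Module.finrank K W = Module.finrank K V := by
  set d := Module.finrank K W with hd
  let e : Module.Basis (Fin d) K W := Module.finBasis K W
  let L : V →ₗ[K] (Fin d → K) :=
    { toFun := fun v i => b.B v (e i)
      map_add' := fun v v' => funext fun i => b.add_left _ _ _
      map_smul' := fun a v => funext fun i => b.smul_left _ _ _ }
  have hL : ∀ v i, L v i = b.B v (e i) := fun _ _ => rfl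
  have hker : LinearMap.ker L = perp b W := by
    ext v
    rw [LinearMap.mem_ker, mem_perp]
    constructor
    · intro h w hw
      have h1 : (⟨w, hw⟩ : W) = ∑ i, e.repr ⟨w, hw⟩ i • e i := (e.sum_repr _).symm
      have h2 : w = ∑ i, e.repr ⟨w, hw⟩ i • (e i : V) := by
        have := congrArg W.subtype h1
        rw [map_sum] at this
        simpa only [map_smul, Submodule.subtype_apply] using this
      rw [h2, B_sum_right]
      refine Finset.sum_eq_zero fun i _ => ?_
      rw [b.smul_right, ← hL, h]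
      simp
    · intro h
      funext i
      exact h _ (e i).2
  have hsurj : LinearMap.range L = ⊤ := by
    by_contra hne
    obtain ⟨f, hf0, hf⟩ := Submodule.exists_le_ker_of_lt_top _ (lt_top_iff_ne_top.2 hne)
    apply hf0
    have h1 : ∀ x : Fin d → K, f x = ∑ i, x i * f (Pi.single i 1) := by
      intro x
      conv_lhs => rw [← Finset.univ_sum_single x]
      rw [map_sum]
      refine Finset.sum_congr rfl fun i _ => ?_
      have : (Pi.single i (x i) : Fin d → K) = x i • Pi.single i 1 := by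
        rw [← Pi.single_smul, smul_eq_mul, mul_one]
      rw [this, map_smul, smul_eq_mul]
    have h2 : ∀ v, b.B v (∑ i, b.τ (f (Pi.single i 1)) • (e i : V)) = 0 := by
      intro v
      rw [B_sum_right]
      have h3 : f (L v) = 0 := hf ⟨v, rfl⟩
      rw [h1] at h3
      rw [← h3]
      refine Finset.sum_congr rfl fun i _ => ?_
      rw [b.smul_right, b.invol, hL, mul_comm]
    have h4 := nondeg_right b h2
    have h5 : ∑ i, b.τ (f (Pi.single i 1)) • e i = 0 := by
      apply Subtype.ext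
      simpa using h4
    have h6 := (Fintype.linearIndependent_iff.1 e.linearIndependent) _ h5
    refine LinearMap.ext fun x => ?_
    rw [h1, LinearMap.zero_apply]
    refine Finset.sum_eq_zero fun i _ => ?_
    rw [(map_eq_zero b.τ).1 (h6 i), mul_zero]
  have h7 := LinearMap.finrank_range_add_finrank_ker L
  rw [hsurj, hker, finrank_top, Module.finrank_fin_fun] at h7
  omega

theorem le_perp_perp (b : Cl K V) (W : Submodule K V) : W ≤ perp b (perp b W) := fun _ hv _ hw =>
  B_symm0 b (hw _ hv)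

theorem perp_anti (b : Cl K V) {W W' : Submodule K V} (h : W ≤ W') : perp b W' ≤ perp b W := fun _ hv w hw =>
  hv w (h hw)

theorem TI_iff {b : Cl K V} {W : Submodule K V} : b.TI W ↔ W ≤ perp b W := Iff.rfl

/-- if `A ≤ W ≤ A^⊥` and `W ∩ W^⊥ = A` then `W + W^⊥ = A^⊥` -/
theorem sup_perp [Module.Finite K V] (b : Cl K V) {A W : Submodule K V} (hAW : A ≤ W) (hWA : W ≤ perp b A)
    (h : W ⊓ perp b W = A) : W ⊔ perp b W = perp b A := by
  have h0 : W ⊔ perp b W ≤ perp b A := sup_le hWA (perp_anti b hAW)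
  refine Submodule.eq_of_le_of_finrank_eq h0 ?_
  have h1 := Submodule.finrank_sup_add_finrank_inf_eq W (perp b W)
  have h2 := finrank_perp b W
  have h3 := finrank_perp b A
  rw [h] at h1
  omega

end perp

section quot

variable {K : Type u} [Field K] {V : Type v} [AddCommGroup V] [Module K V]

/-- an additive endomorphism acting on a section `P / A` -/
def secMap (P A : AddSubgroup V) (g : V → V) (hg : ∀ v w, g (v + w) = g v + g w) (h0 : g 0 = 0)
    (hP : ∀ v ∈ P, g v ∈ P) (hA : ∀ v ∈ A, g v ∈ A) :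
    (P ⧸ A.addSubgroupOf P) →+ (P ⧸ A.addSubgroupOf P) :=
  QuotientAddGroup.map _ _
    { toFun := fun v => ⟨g v, hP v v.2⟩
      map_zero' := Subtype.ext h0
      map_add' := fun v w => Subtype.ext (hg v w) }
    (fun v hv => by
      rw [AddSubgroup.mem_comap, AddSubgroup.mem_addSubgroupOf]
      rw [AddSubgroup.mem_addSubgroupOf] at hv
      exact hA _ hv)

theorem secMap_mk (P A : AddSubgroup V) (g : V → V) (hg h0 hP hA) (v : P) :
    secMap P A g hg h0 hP hA (QuotientAddGroup.mk v) = QuotientAddGroup.mk ⟨g v, hP v v.2⟩ := rfl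

end quot

theorem exists_base3 {K : Type u} [Field K] [Finite K] {V : Type v} [AddCommGroup V] [Module K V] [Module.Finite K V]
    {b : Cl K V} {G : Subgroup (Equiv.Perm V)} (hG : G ≤ Sim b) (hsol : Group.IsSolvable G)
    (hhom : ∀ a, hm K V a ∈ G) {A : Submodule K V} (hA : b.TI A) (hGA : ∀ g ∈ G, ∀ v ∈ A, g v ∈ A)
    (hmax : ∀ W : Submodule K V, A ≤ W → b.TI W → (∀ g ∈ G, ∀ v ∈ W, g v ∈ W) → W = A) :
    ∃ w : Fin 3 → V, (∀ j, ∀ a ∈ A, b.B (w j) a = 0) ∧
      ∀ g ∈ G, (∀ j, g (w j) - w j ∈ A) → ∀ v, (∀ a ∈ A, b.B v a = 0) → g v - v ∈ A := by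
  classical
  haveI : Finite V := Module.finite_of_finite K
  set P := perp b A with hPdef
  -- additivity
  have hadd : ∀ g ∈ G, ∀ v w, g (v + w) = g v + g w := by
    intro g hg v w
    obtain ⟨σ, μ, h⟩ := hG hg
    exact h.add v w
  have hz : ∀ g ∈ G, g 0 = 0 := by
    intro g hg
    obtain ⟨σ, μ, h⟩ := hG hg
    exact h.map_zero
  -- orthogonality is preserved
  have hort : ∀ W : Submodule K V, (∀ g ∈ G, ∀ v ∈ W, g v ∈ W) → ∀ g ∈ G, ∀ v ∈ perp b W, g v ∈ perp b W := by
    intro W hW g hg v hv w hw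
    obtain ⟨σ, μ, h⟩ := hG hg
    have h1 : w = g (g⁻¹ w) := by simp
    rw [h1, h.form, hv _ (hW g⁻¹ (inv_mem hg) w hw), map_zero, mul_zero]
  have hGP : ∀ g ∈ G, ∀ v ∈ P, g v ∈ P := hort A hGA
  have hAP : A ≤ P := hA
  let P' : AddSubgroup V := P.toAddSubgroup
  let A' : AddSubgroup V := A.toAddSubgroup
  let Q := P' ⧸ A'.addSubgroupOf P'
  haveI : Finite Q := inferInstance
  let φ : G →* AddMonoid.End Q :=
    { toFun := fun g => secMap P' A' g (hadd g g.2) (hz g g.2) (hGP g g.2) (hGA g g.2)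
      map_one' := by
        refine AddMonoidHom.ext fun q => ?_
        obtain ⟨v, rfl⟩ := QuotientAddGroup.mk_surjective q
        rfl
      map_mul' := fun g h => by
        refine AddMonoidHom.ext fun q => ?_
        obtain ⟨v, rfl⟩ := QuotientAddGroup.mk_surjective q
        rfl }
  have hφ : ∀ (g : G) (v : P'), φ g (QuotientAddGroup.mk v) = QuotientAddGroup.mk ⟨(g : Equiv.Perm V) v, hGP g g.2 v v.2⟩ :=
    fun g v => rfl
  let Ψ : G →* (AddMonoid.End Q)ˣ := φ.toHomUnits
  let H := Ψ.range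
  haveI : Finite H := Finite.of_surjective Ψ.rangeRestrict Ψ.rangeRestrict_surjective
  have hHs : Group.IsSolvable H := Group.isSolvable_of_surjective (f := Ψ.rangeRestrict) Ψ.rangeRestrict_surjective
  have hact : ∀ (g : G) (q : Q), (⟨Ψ g, g, rfl⟩ : H) • q = φ g q := fun g q => rfl
  have hcr : ∀ U : AddSubgroup Q, (∀ a : H, ∀ v ∈ U, a • v ∈ U) →
      ∃ W : AddSubgroup Q, (∀ a : H, ∀ w ∈ W, a • w ∈ W) ∧ U ⊓ W = ⊥ ∧ U ⊔ W = ⊤ := by
    intro U hU
    -- the preimage
    have hU' : ∀ (g : G), ∀ q ∈ U, φ g q ∈ U := fun g q hq => hU ⟨Ψ g, g, rfl⟩ q hq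
    let W : Submodule K V :=
      { carrier := {v | ∃ hv : v ∈ P', (QuotientAddGroup.mk ⟨v, hv⟩ : Q) ∈ U}
        add_mem' := by
          rintro v w ⟨hv, hv'⟩ ⟨hw, hw'⟩
          exact ⟨add_mem hv hw, U.add_mem hv' hw'⟩
        zero_mem' := ⟨zero_mem _, U.zero_mem⟩
        smul_mem' := by
          rintro a v ⟨hv, hv'⟩
          by_cases ha : a = 0
          · subst ha
            have : (0 : K) • v = 0 := zero_smul K v
            refine ⟨by rw [this]; exact zero_mem _, ?_⟩
            have h2 : (⟨(0 : K) • v, by rw [this]; exact zero_mem _⟩ : P') = 0 := Subtype.ext this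
            have h3 : (QuotientAddGroup.mk (⟨(0 : K) • v, by rw [this]; exact zero_mem _⟩ : P') : Q) = 0 := by
              rw [h2]; rfl
            rw [h3]
            exact U.zero_mem
          · have h1 := hU' ⟨hm K V (Units.mk0 a ha), hhom _⟩ _ hv'
            rw [hφ] at h1
            exact ⟨P.smul_mem a hv, h1⟩ }
    have hW : ∀ v, v ∈ W ↔ ∃ hv : v ∈ P', (QuotientAddGroup.mk ⟨v, hv⟩ : Q) ∈ U := fun v => Iff.rfl
    have hmkA : ∀ (v : V) (hv : v ∈ P'), v ∈ A → (QuotientAddGroup.mk ⟨v, hv⟩ : Q) = 0 := by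
      intro v hv hvA
      rw [QuotientAddGroup.eq_zero_iff, AddSubgroup.mem_addSubgroupOf]
      exact hvA
    have hmkA' : ∀ (v : V) (hv : v ∈ P'), (QuotientAddGroup.mk ⟨v, hv⟩ : Q) = 0 → v ∈ A := by
      intro v hv h
      rw [QuotientAddGroup.eq_zero_iff, AddSubgroup.mem_addSubgroupOf] at h
      exact h
    have hAW : A ≤ W := fun v hv => ⟨hAP hv, by rw [hmkA v _ hv]; exact U.zero_mem⟩
    have hWP : W ≤ P := fun v hv => hv.1
    have hGW : ∀ g ∈ G, ∀ v ∈ W, g v ∈ W := by
      rintro g hg v ⟨hv, hv'⟩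
      have h1 := hU' ⟨g, hg⟩ _ hv'
      rw [hφ] at h1
      exact ⟨hGP g hg v hv, h1⟩
    have hGW' := hort W hGW
    have hinf : W ⊓ perp b W = A := by
      refine hmax _ (le_inf hAW (le_trans (le_perp_perp b A) (perp_anti b hWP))) ?_ ?_
      · intro v hv w hw
        exact hv.2 w hw.1
      · intro g hg v hv
        exact ⟨hGW g hg v hv.1, hGW' g hg v hv.2⟩
    have hsup : W ⊔ perp b W = P := sup_perp b hAW hWP hinf
    have hpP : perp b W ≤ P := perp_anti b hAW
    let U' : AddSubgroup Q :=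
      ((perp b W).toAddSubgroup.addSubgroupOf P').map (QuotientAddGroup.mk' (A'.addSubgroupOf P'))
    have hU'mem : ∀ q, q ∈ U' ↔ ∃ v : V, ∃ hv : v ∈ P', v ∈ perp b W ∧ (QuotientAddGroup.mk ⟨v, hv⟩ : Q) = q := by
      intro q
      constructor
      · rintro ⟨⟨v, hv⟩, h1, h2⟩
        exact ⟨v, hv, h1, h2⟩
      · rintro ⟨v, hv, h1, h2⟩
        exact ⟨⟨v, hv⟩, h1, h2⟩
    refine ⟨U', ?_, ?_, ?_⟩
    · rintro ⟨_, g, rfl⟩ q hq
      obtain ⟨v, hv, h1, rfl⟩ := (hU'mem q).1 hq
      refine (hU'mem _).2 ⟨(g : Equiv.Perm V) v, hGP g g.2 v hv, hGW' g g.2 v h1, ?_⟩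
      rfl
    · rw [eq_bot_iff]
      rintro q ⟨hq, hq'⟩
      obtain ⟨v, hv, h1, rfl⟩ := (hU'mem q).1 hq'
      have h2 : v ∈ W := ⟨hv, hq⟩
      have h3 : v ∈ A := by rw [← hinf]; exact ⟨h2, h1⟩
      rw [AddSubgroup.mem_bot]
      exact hmkA v hv h3
    · rw [eq_top_iff]
      rintro q -
      obtain ⟨⟨v, hv⟩, rfl⟩ := QuotientAddGroup.mk_surjective q
      have h1 : v ∈ W ⊔ perp b W := by rw [hsup]; exact hv
      obtain ⟨w, hw, w', hw', rfl⟩ := Submodule.mem_sup.1 h1
      have h2 : (QuotientAddGroup.mk (⟨w + w', hv⟩ : P') : Q) =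
          QuotientAddGroup.mk (⟨w, hWP hw⟩ : P') + QuotientAddGroup.mk (⟨w', hpP hw'⟩ : P') := rfl
      rw [h2]
      refine add_mem (AddSubgroup.mem_sup_left ?_) (AddSubgroup.mem_sup_right ?_)
      · obtain ⟨h3, h4⟩ := hw
        exact h4
      · exact (hU'mem _).2 ⟨w', hpP hw', hw', rfl⟩
  obtain ⟨q₁, q₂, q₃, hq⟩ := Cfsg.Agent.H578.base3 (A := H) (V := Q) hHs hcr
  obtain ⟨w₁, rfl⟩ := QuotientAddGroup.mk_surjective q₁
  obtain ⟨w₂, rfl⟩ := QuotientAddGroup.mk_surjective q₂
  obtain ⟨w₃, rfl⟩ := QuotientAddGroup.mk_surjective q₃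
  have hmk : ∀ (v w : P'), (QuotientAddGroup.mk v : Q) = QuotientAddGroup.mk w ↔ (v : V) - w ∈ A := by
    intro v w
    rw [eq_comm, QuotientAddGroup.eq, AddSubgroup.mem_addSubgroupOf]
    have : ((-w + v : P') : V) = (v : V) - w := by
      simp [sub_eq_add_neg, add_comm]
    rw [this]
    rfl
  refine ⟨![w₁, w₂, w₃], ?_, ?_⟩
  · intro j
    fin_cases j
    · exact w₁.2
    · exact w₂.2
    · exact w₃.2
  · intro g hg hj v hv
    have h1 := hq ⟨Ψ ⟨g, hg⟩, ⟨g, hg⟩, rfl⟩
      (by rw [hact, hφ, hmk]; exact hj 0) (by rw [hact, hφ, hmk]; exact hj 1) (by rw [hact, hφ, hmk]; exact hj 2)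
    have h2 : φ ⟨g, hg⟩ = 1 := by
      have := congrArg (fun z : H => ((z : (AddMonoid.End Q)ˣ) : AddMonoid.End Q)) h1
      exact this
    have h3 : φ ⟨g, hg⟩ (QuotientAddGroup.mk (⟨v, hv⟩ : P')) = QuotientAddGroup.mk (⟨v, hv⟩ : P') := by
      rw [h2]; rfl
    rw [hφ, hmk] at h3
    exact h3

end Cfsg.Agent.H762.FC
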