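import Mathlib

/-!
# Witt decomposition of a non-degenerate skew-hermitian (or alternating) form over a finite field (helper762)

For S5764, [B-C3] (helper510): `witt`.
-/

set_option autoImplicit false

namespace Cfsg.Agent.H762.FC

universe u v

section field

variable {F : Type u} [Field F] (ν : F ≃+* F)

/-- `κ - ν κ = δ` is solvable for skew `δ` -/
theorem exists_sub (hν : ∀ a, ν (ν a) = a) (hne : ∃ a, ν a ≠ a) {δ : F} (hδ : ν δ = -δ) : ∃ κ : F, κ - ν κ = δ := by
  have key : ∃ a : F, a + ν a ≠ 0 := by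
    by_contra hcon
    push Not at hcon
    obtain ⟨a, ha⟩ := hne
    have h1 : (1 : F) + 1 = 0 := by simpa using hcon 1
    apply ha
    have h2 : ν a = -a := by
      have := hcon a
      exact eq_neg_of_add_eq_zero_right this
    have h3 : -a = a := by
      have : a + a = 0 := by
        have : a + a = (1 + 1) * a := by ring
        rw [this, h1, zero_mul]
      exact neg_eq_of_add_eq_zero_left this
    rw [h2, h3]
  obtain ⟨a, ha⟩ := key
  refine ⟨δ * (a / (a + ν a)), ?_⟩
  have h1 : ν (a + ν a) = a + ν a := by rw [map_add, hν]; ring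
  rw [map_mul, map_div₀, h1, hδ]
  field_simp
  ring

/-- the norm `a ↦ a ν(a)` is surjective onto the fixed field -/
theorem exists_norm [Finite F] (hν : ∀ a, ν (ν a) = a) (hne : ∃ a, ν a ≠ a) {t : F} (ht : ν t = t) :
    ∃ a : F, a * ν a = t := by
  by_cases ht0 : t = 0
  · exact ⟨0, by simp [ht0]⟩
  let n : Fˣ →* Fˣ := Units.map (ν : F →* F)
  have hn : ∀ a : Fˣ, ((n a : Fˣ) : F) = ν a := fun a => rfl
  let N : Fˣ →* Fˣ :=
    { toFun := fun a => a * n a
      map_one' := by simp
      map_mul' := fun a b => by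
        rw [map_mul]
        exact mul_mul_mul_comm a b (n a) (n b) }
  let D : Fˣ →* Fˣ :=
    { toFun := fun a => a * (n a)⁻¹
      map_one' := by simp
      map_mul' := fun a b => by
        rw [map_mul, mul_inv]
        exact mul_mul_mul_comm a b (n a)⁻¹ (n b)⁻¹ }
  have hN : ∀ a, N a = a * n a := fun a => rfl
  have hD : ∀ a, D a = a * (n a)⁻¹ := fun a => rfl
  have hnn : ∀ a, n (n a) = a := fun a => Units.ext (hν _)
  -- Hilbert 90
  have h90 : N.ker ≤ D.range := by
    intro a ha
    rw [MonoidHom.mem_ker, hN] at ha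
    have ha' : (a : F) * ν a = 1 := by
      have := congrArg (fun z : Fˣ => (z : F)) ha
      simpa [hn] using this
    obtain ⟨c, hc⟩ : ∃ c : F, c + a * ν c ≠ 0 := by
      by_contra hcon
      push Not at hcon
      obtain ⟨b, hb⟩ := hne
      have h1 : (1 : F) + a = 0 := by simpa using hcon 1
      have h2 : (a : F) = -1 := eq_neg_of_add_eq_zero_right h1
      have h3 := hcon b
      rw [h2] at h3
      apply hb
      have : b = ν b := by linear_combination h3
      exact this.symm
    refine ⟨Units.mk0 _ hc, ?_⟩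
    rw [hD, mul_inv_eq_iff_eq_mul]
    apply Units.ext
    rw [Units.val_mk0, Units.val_mul, hn, Units.val_mk0, map_add, map_mul, hν]
    linear_combination (-c) * ha'
  have hDk : N.range ≤ D.ker := by
    rintro _ ⟨a, rfl⟩
    rw [MonoidHom.mem_ker, hD, hN, map_mul, hnn, mul_comm (n a) a, mul_inv_cancel]
  have c1 : Nat.card N.range * Nat.card N.ker = Nat.card Fˣ := by
    rw [mul_comm, ← Subgroup.index_ker N]
    exact Subgroup.card_mul_index _
  have c2 : Nat.card D.range * Nat.card D.ker = Nat.card Fˣ := by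
    rw [mul_comm, ← Subgroup.index_ker D]
    exact Subgroup.card_mul_index _
  have c3 : Nat.card N.ker ≤ Nat.card D.range := Nat.card_le_card_of_injective _ (Subgroup.inclusion_injective h90)
  have c4 : Nat.card D.ker ≤ Nat.card N.range := by
    by_contra hlt
    push Not at hlt
    have hp : 0 < Nat.card N.ker := Nat.card_pos
    have : Nat.card N.range * Nat.card N.ker < Nat.card D.range * Nat.card D.ker := by
      calc Nat.card N.range * Nat.card N.ker < Nat.card D.ker * Nat.card N.ker :=
            Nat.mul_lt_mul_of_pos_right hlt hp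
        _ ≤ Nat.card D.ker * Nat.card D.range := Nat.mul_le_mul_left _ c3
        _ = _ := mul_comm _ _
    omega
  have heq : N.range = D.ker := Subgroup.eq_of_le_of_card_ge hDk c4
  have hmem : Units.mk0 t ht0 ∈ D.ker := by
    rw [MonoidHom.mem_ker, hD, mul_inv_eq_one]
    apply Units.ext
    rw [hn, Units.val_mk0, ht]
  rw [← heq] at hmem
  obtain ⟨a, ha⟩ := hmem
  refine ⟨a, ?_⟩
  have := congrArg (fun z : Fˣ => (z : F)) ha
  simpa [hN, hn] using this

end field

section form

variable {F : Type u} [Field F] {V : Type v} [AddCommGroup V] [Module F V]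

/-- non-degenerate skew-hermitian or alternating -/
structure Sk (ν : F ≃+* F) (B : V → V → F) : Prop where
  invol : ∀ a, ν (ν a) = a
  add_left : ∀ v v' w, B (v + v') w = B v w + B v' w
  add_right : ∀ v w w', B v (w + w') = B v w + B v w'
  smul_left : ∀ (a : F) v w, B (a • v) w = a * B v w
  smul_right : ∀ (a : F) v w, B v (a • w) = ν a * B v w
  skew : ∀ v w, B w v = -ν (B v w)
  nondeg : ∀ v, (∀ w, B v w = 0) → v = 0
  alt : (∀ a, ν a = a) → ∀ v, B v v = 0

variable {ν : F ≃+* F} {B : V → V → F}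

namespace Sk

theorem zero_left (h : Sk ν B) (w : V) : B 0 w = 0 := by
  have := h.smul_left 0 0 w
  simpa using this

theorem zero_right (h : Sk ν B) (w : V) : B w 0 = 0 := by
  have := h.smul_right 0 w 0
  simpa using this

theorem neg_left (h : Sk ν B) (v w : V) : B (-v) w = -B v w := by
  have := h.smul_left (-1) v w
  simpa using this

theorem neg_right (h : Sk ν B) (v w : V) : B v (-w) = -B v w := by
  have := h.smul_right (-1) v w
  simpa using this

theorem sub_left (h : Sk ν B) (v v' w : V) : B (v - v') w = B v w - B v' w := by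
  rw [sub_eq_add_neg, h.add_left, h.neg_left, sub_eq_add_neg]

theorem sub_right (h : Sk ν B) (v w w' : V) : B v (w - w') = B v w - B v w' := by
  rw [sub_eq_add_neg, h.add_right, h.neg_right, sub_eq_add_neg]

theorem sum_left (h : Sk ν B) {ι : Type*} (s : Finset ι) (f : ι → V) (w : V) :
    B (∑ i ∈ s, f i) w = ∑ i ∈ s, B (f i) w := by
  classical
  induction s using Finset.induction_on with
  | empty => simp [h.zero_left]
  | insert a s ha ih => rw [Finset.sum_insert ha, Finset.sum_insert ha, h.add_left, ih]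

theorem sum_right (h : Sk ν B) {ι : Type*} (s : Finset ι) (f : ι → V) (w : V) :
    B w (∑ i ∈ s, f i) = ∑ i ∈ s, B w (f i) := by
  classical
  induction s using Finset.induction_on with
  | empty => simp [h.zero_right]
  | insert a s ha ih => rw [Finset.sum_insert ha, Finset.sum_insert ha, h.add_right, ih]

theorem perp (h : Sk ν B) {v w : V} (hv : B v w = 0) : B w v = 0 := by
  rw [h.skew v w, hv, map_zero, neg_zero]

theorem self_skew (h : Sk ν B) (v : V) : ν (B v v) = -B v v := by
  have := h.skew v v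
  rw [eq_neg_iff_add_eq_zero] at this ⊢
  rw [add_comm]
  exact this

/-- correction of the second member of a hyperbolic pair -/
theorem exists_corr (h : Sk ν B) (w : V) : ∃ c : F, c - ν c = -B w w := by
  by_cases hne : ∃ a, ν a ≠ a
  · refine exists_sub ν h.invol hne ?_
    rw [map_neg, h.self_skew w]
  · push Not at hne
    exact ⟨0, by rw [h.alt hne w]; simp⟩

end Sk

/-- hyperbolic pairs -/
def Hyp (B : V → V → F) (m : ℕ) (e e' : Fin m → V) : Prop :=
  (∀ i j, B (e i) (e j) = 0) ∧ (∀ i j, B (e' i) (e' j) = 0) ∧ (∀ i j, B (e i) (e' j) = if i = j then 1 else 0)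

theorem Hyp.le (h : Sk ν B) [Module.Finite F V] {m : ℕ} {e e' : Fin m → V} (H : Hyp B m e e') :
    m ≤ Module.finrank F V := by
  have hli : LinearIndependent F e := by
    rw [Fintype.linearIndependent_iff]
    intro g hg i
    have h1 : B (∑ j, g j • e j) (e' i) = 0 := by rw [hg, h.zero_left]
    rw [h.sum_left] at h1
    have h2 : ∀ j, B (g j • e j) (e' i) = if j = i then g i else 0 := by
      intro j
      rw [h.smul_left, H.2.2]
      split_ifs with hji
      · rw [hji, mul_one]
      · rw [mul_zero]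
    simp only [h2] at h1
    simpa using h1
  simpa using hli.fintype_card_le_finrank

theorem Hyp.cons (h : Sk ν B) {m : ℕ} {e e' : Fin m → V} (H : Hyp B m e e') {u w : V} (huu : B u u = 0)
    (hww : B w w = 0) (huw : B u w = 1) (hu : ∀ i, B u (e i) = 0) (hu' : ∀ i, B u (e' i) = 0)
    (hw : ∀ i, B w (e i) = 0) (hw' : ∀ i, B w (e' i) = 0) :
    Hyp B (m + 1) (Fin.cons u e) (Fin.cons w e') := by
  refine ⟨fun i j => ?_, fun i j => ?_, fun i j => ?_⟩
  · refine Fin.cases ?_ (fun i => ?_) i <;> refine Fin.cases ?_ (fun j => ?_) j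
    · simpa using huu
    · simpa using hu j
    · simpa using h.perp (hu i)
    · simpa using H.1 i j
  · refine Fin.cases ?_ (fun i => ?_) i <;> refine Fin.cases ?_ (fun j => ?_) j
    · simpa using hww
    · simpa using hw' j
    · simpa using h.perp (hw' i)
    · simpa using H.2.1 i j
  · refine Fin.cases ?_ (fun i => ?_) i <;> refine Fin.cases ?_ (fun j => ?_) j
    · simpa using huw
    · have := hu' j
      simpa [Fin.ext_iff] using this
    · have := h.perp (hw i)
      simpa [Fin.ext_iff] using this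
    · have := H.2.2 i j
      simpa [Fin.ext_iff] using this

/-- the projection to the orthogonal complement -/
def pr (B : V → V → F) {m : ℕ} (e e' : Fin m → V) (v : V) : V :=
  v - ∑ i, B v (e' i) • e i + ∑ i, B v (e i) • e' i

theorem Hyp.flip (h : Sk ν B) {m : ℕ} {e e' : Fin m → V} (H : Hyp B m e e') (i j : Fin m) :
    B (e' i) (e j) = if i = j then -1 else 0 := by
  rw [h.skew (e j) (e' i), H.2.2]
  by_cases hij : i = j
  · subst hij; simp
  · rw [if_neg hij, if_neg (Ne.symm hij)]; simp

theorem pr_left (h : Sk ν B) {m : ℕ} {e e' : Fin m → V} (H : Hyp B m e e') (v : V) (j : Fin m) :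
    B (pr B e e' v) (e j) = 0 := by
  unfold pr
  rw [h.add_left, h.sub_left, h.sum_left, h.sum_left]
  simp only [h.smul_left, H.1, H.flip h]
  simp

theorem pr_right (h : Sk ν B) {m : ℕ} {e e' : Fin m → V} (H : Hyp B m e e') (v : V) (j : Fin m) :
    B (pr B e e' v) (e' j) = 0 := by
  unfold pr
  rw [h.add_left, h.sub_left, h.sum_left, h.sum_left]
  simp only [h.smul_left, H.2.1, H.2.2]
  simp

theorem pr_perp (h : Sk ν B) {m : ℕ} {e e' : Fin m → V} {u : V} (hu : ∀ i, B u (e i) = 0)
    (hu' : ∀ i, B u (e' i) = 0) (v : V) : B u (pr B e e' v) = B u v := by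
  unfold pr
  rw [h.add_right, h.sub_right, h.sum_right, h.sum_right]
  simp only [h.smul_right, hu, hu']
  simp

/-- an isotropic vector orthogonal to a maximal hyperbolic family is zero -/
theorem max_aniso (h : Sk ν B) {m : ℕ} {e e' : Fin m → V} (H : Hyp B m e e')
    (hmax : ¬ ∃ f f' : Fin (m + 1) → V, Hyp B (m + 1) f f') {u : V} (huu : B u u = 0) (hu : ∀ i, B u (e i) = 0)
    (hu' : ∀ i, B u (e' i) = 0) : u = 0 := by
  by_contra hu0
  obtain ⟨v, hv⟩ : ∃ v, B u v ≠ 0 := by
    by_contra hcon
    push Not at hcon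
    exact hu0 (h.nondeg u hcon)
  -- `w` in the complement with `B u w = 1`
  obtain ⟨w, h1, h2, h3⟩ : ∃ w, B u w = 1 ∧ (∀ i, B w (e i) = 0) ∧ ∀ i, B w (e' i) = 0 := by
    refine ⟨ν (B u v)⁻¹ • pr B e e' v, ?_, fun i => ?_, fun i => ?_⟩
    · rw [h.smul_right, pr_perp h hu hu', h.invol, inv_mul_cancel₀ hv]
    · rw [h.smul_left, pr_left h H, mul_zero]
    · rw [h.smul_left, pr_right h H, mul_zero]
  obtain ⟨c, hc⟩ := h.exists_corr w
  apply hmax
  refine ⟨Fin.cons u e, Fin.cons (w + c • u) e', H.cons h huu ?_ ?_ hu hu' ?_ ?_⟩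
  · rw [h.add_left, h.add_right, h.add_right, h.smul_left, h.smul_left, h.smul_right, h.smul_right, huu, h1,
      h.skew u w, h1, map_one]
    linear_combination hc
  · rw [h.add_right, h.smul_right, huu, h1]; simp
  · intro i
    rw [h.add_left, h.smul_left, h2, hu]; simp
  · intro i
    rw [h.add_left, h.smul_left, h3, hu']; simp

theorem exists_max (h : Sk ν B) [Module.Finite F V] :
    ∃ (m : ℕ) (e e' : Fin m → V), Hyp B m e e' ∧ ¬ ∃ f f' : Fin (m + 1) → V, Hyp B (m + 1) f f' := by
  by_contra hcon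
  push Not at hcon
  have key : ∀ m : ℕ, ∃ e e' : Fin m → V, Hyp B m e e' := by
    intro m
    induction m with
    | zero => exact ⟨fun _ => 0, fun _ => 0, fun i => i.elim0, fun i => i.elim0, fun i => i.elim0⟩
    | succ m ih =>
      obtain ⟨e, e', H⟩ := ih
      exact hcon m e e' H
  obtain ⟨e, e', H⟩ := key (Module.finrank F V + 1)
  have := H.le h
  omega

/-- **The vectors of the Witt decomposition.** -/
theorem witt_vec [Finite F] [Module.Finite F V] (h : Sk ν B) :
    ∃ (m ε : ℕ) (δ : F) (e e' : Fin m → V) (c : Fin ε → V), ε ≤ 1 ∧ ν δ = -δ ∧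
      (ε = 1 → δ ≠ 0 ∧ ∃ a, ν a ≠ a) ∧ Hyp B m e e' ∧
      (∀ i j, B (c i) (c j) = if i = j then δ else 0) ∧ (∀ i j, B (c i) (e j) = 0) ∧ (∀ i j, B (c i) (e' j) = 0) ∧
      ∀ v : V, ∃ a : Fin ε → F, pr B e e' v = ∑ i, a i • c i := by
  obtain ⟨m, e, e', H, hmax⟩ := exists_max h
  by_cases hW : ∀ w : V, (∀ i, B w (e i) = 0) → (∀ i, B w (e' i) = 0) → w = 0
  · refine ⟨m, 0, 0, e, e', fun _ => 0, Nat.zero_le _, by simp, fun h0 => absurd h0 (by norm_num), H,
      fun i => i.elim0, fun i => i.elim0, fun i => i.elim0, fun v => ⟨fun _ => 0, ?_⟩⟩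
    rw [hW _ (pr_left h H v) (pr_right h H v)]
    simp
  · push Not at hW
    obtain ⟨c, hc1, hc2, hc0⟩ := hW
    have hcc : B c c ≠ 0 := fun h0 => hc0 (max_aniso h H hmax h0 hc1 hc2)
    have hne : ∃ a, ν a ≠ a := by
      by_contra hcon
      push Not at hcon
      exact hcc (h.alt hcon c)
    refine ⟨m, 1, B c c, e, e', fun _ => c, le_refl _, h.self_skew c, fun _ => ⟨hcc, hne⟩, H, fun i j => ?_,
      fun _ => hc1, fun _ => hc2, fun v => ?_⟩
    · rw [if_pos (Subsingleton.elim i j)]
    · set w := pr B e e' v with hw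
      have hw1 : ∀ i, B w (e i) = 0 := pr_left h H v
      have hw2 : ∀ i, B w (e' i) = 0 := pr_right h H v
      refine ⟨fun _ => B w c / B c c, ?_⟩
      rw [Fin.sum_univ_one]
      set w₁ := w - (B w c / B c c) • c with hw₁
      have h1 : B w₁ c = 0 := by
        rw [hw₁, h.sub_left, h.smul_left, div_mul_cancel₀ _ hcc, sub_self]
      have h2 : ∀ i, B w₁ (e i) = 0 := fun i => by rw [hw₁, h.sub_left, h.smul_left, hw1, hc1]; simp
      have h3 : ∀ i, B w₁ (e' i) = 0 := fun i => by rw [hw₁, h.sub_left, h.smul_left, hw2, hc2]; simp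
      have h4 : w₁ = 0 := by
        by_contra h0
        have h5 : B w₁ w₁ ≠ 0 := fun h6 => h0 (max_aniso h H hmax h6 h2 h3)
        obtain ⟨a, ha⟩ := exists_norm ν h.invol hne (t := -(B w₁ w₁ / B c c)) (by
          rw [map_neg, map_div₀, h.self_skew, h.self_skew, neg_div_neg_eq])
        have ha0 : a ≠ 0 := by
          rintro rfl
          rw [zero_mul] at ha
          have := neg_eq_zero.1 ha.symm
          rw [div_eq_zero_iff] at this
          exact this.elim h5 hcc
        have h6 : w₁ + a • c = 0 := by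
          refine max_aniso h H hmax ?_ ?_ ?_
          · rw [h.add_left, h.add_right, h.add_right, h.smul_left, h.smul_left, h.smul_right, h.smul_right, h1,
              h.perp h1]
            have : a * (ν a * B c c) = -(B w₁ w₁) := by
              rw [← mul_assoc, ha]
              field_simp
            rw [this]
            ring
          · intro i; rw [h.add_left, h.smul_left, h2, hc1]; simp
          · intro i; rw [h.add_left, h.smul_left, h3, hc2]; simp
        have h7 : B (w₁ + a • c) c = a * B c c := by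
          rw [h.add_left, h.smul_left, h1, zero_add]
        rw [h6, h.zero_left] at h7
        exact mul_ne_zero ha0 hcc h7.symm
      rw [hw₁, sub_eq_zero] at h4
      exact h4

/-- **The Witt decomposition.** -/
theorem witt [Finite F] [Module.Finite F V] (ν : F ≃+* F) (hν : ∀ a, ν (ν a) = a) (B : V → V → F)
    (add_left : ∀ v v' w, B (v + v') w = B v w + B v' w) (add_right : ∀ v w w', B v (w + w') = B v w + B v w')
    (smul_left : ∀ (a : F) v w, B (a • v) w = a * B v w) (smul_right : ∀ (a : F) v w, B v (a • w) = ν a * B v w)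
    (skew : ∀ v w, B w v = -ν (B v w)) (nondeg : ∀ v, (∀ w, B v w = 0) → v = 0)
    (alt : (∀ a, ν a = a) → ∀ v, B v v = 0) :
    ∃ (m ε : ℕ) (δ : F) (Φ : ((Fin m → F) × (Fin m → F) × (Fin ε → F)) ≃ₗ[F] V), ε ≤ 1 ∧ ν δ = -δ ∧
      (ε = 1 → δ ≠ 0 ∧ ∃ a, ν a ≠ a) ∧
      ∀ x x' a y y' b, B (Φ (x, x', a)) (Φ (y, y', b)) =
        ∑ i, x i * ν (y' i) - ∑ i, x' i * ν (y i) + δ * ∑ i, a i * ν (b i) := by
  have h : Sk ν B := ⟨hν, add_left, add_right, smul_left, smul_right, skew, nondeg, alt⟩
  obtain ⟨m, ε, δ, e, e', c, hε, hδ, hδ', H, hcc, hce, hce', hpr⟩ := witt_vec h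
  let Ψ : ((Fin m → F) × (Fin m → F) × (Fin ε → F)) →ₗ[F] V :=
    (Fintype.linearCombination F e).coprod
      ((Fintype.linearCombination F e').coprod (Fintype.linearCombination F c))
  have hΨ : ∀ x x' a, Ψ (x, x', a) = ∑ i, x i • e i + (∑ i, x' i • e' i + ∑ i, a i • c i) := by
    intro x x' a
    simp [Ψ, Fintype.linearCombination_apply]
  have gl : ∀ x x' a w, B (Ψ (x, x', a)) w = ∑ i, x i * B (e i) w + (∑ i, x' i * B (e' i) w + ∑ i, a i * B (c i) w) := by
    intro x x' a w
    rw [hΨ, h.add_left, h.add_left, h.sum_left, h.sum_left, h.sum_left]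
    simp only [h.smul_left]
  have gr : ∀ y y' b w, B w (Ψ (y, y', b)) = ∑ i, ν (y i) * B w (e i) + (∑ i, ν (y' i) * B w (e' i) + ∑ i, ν (b i) * B w (c i)) := by
    intro y y' b w
    rw [hΨ, h.add_right, h.add_right, h.sum_right, h.sum_right, h.sum_right]
    simp only [h.smul_right]
  have r1 : ∀ y y' b i, B (e i) (Ψ (y, y', b)) = ν (y' i) := by
    intro y y' b i
    rw [gr]
    simp only [H.1, H.2.2, h.perp (hce _ _)]
    simp
  have r2 : ∀ y y' b i, B (e' i) (Ψ (y, y', b)) = -ν (y i) := by
    intro y y' b i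
    rw [gr]
    simp only [H.flip h, H.2.1, h.perp (hce' _ _)]
    simp
  have r3 : ∀ y y' b i, B (c i) (Ψ (y, y', b)) = δ * ν (b i) := by
    intro y y' b i
    rw [gr]
    simp only [hce, hce', hcc]
    simp [mul_comm]
  have gram : ∀ x x' a y y' b, B (Ψ (x, x', a)) (Ψ (y, y', b)) =
      ∑ i, x i * ν (y' i) - ∑ i, x' i * ν (y i) + δ * ∑ i, a i * ν (b i) := by
    intro x x' a y y' b
    rw [gl]
    simp only [r1, r2, r3]
    rw [Finset.mul_sum]
    have e1 : ∑ i, x' i * -ν (y i) = -∑ i, x' i * ν (y i) := by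
      rw [← Finset.sum_neg_distrib]
      exact Finset.sum_congr rfl fun i _ => by ring
    have e2 : ∑ i, a i * (δ * ν (b i)) = ∑ i, δ * (a i * ν (b i)) :=
      Finset.sum_congr rfl fun i _ => by ring
    rw [e1, e2]
    ring
  have hinj : Function.Injective Ψ := by
    rw [injective_iff_map_eq_zero]
    rintro ⟨y, y', b⟩ h0
    have h1 : y' = 0 := by
      funext i
      have := r1 y y' b i
      rw [h0, h.zero_right] at this
      exact (map_eq_zero_iff ν ν.injective).1 this.symm
    have h2 : y = 0 := by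
      funext i
      have := r2 y y' b i
      rw [h0, h.zero_right] at this
      exact (map_eq_zero_iff ν ν.injective).1 (neg_eq_zero.1 this.symm)
    have h3 : b = 0 := by
      funext i
      have := r3 y y' b i
      rw [h0, h.zero_right] at this
      have hε1 : ε = 1 := by
        have := i.2
        omega
      have hδ0 := (hδ' hε1).1
      rcases mul_eq_zero.1 this.symm with h4 | h4
      · exact absurd h4 hδ0
      · exact (map_eq_zero_iff ν ν.injective).1 h4
    rw [h1, h2, h3]
    rfl
  have hsurj : Function.Surjective Ψ := by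
    intro v
    obtain ⟨a, ha⟩ := hpr v
    refine ⟨(fun i => B v (e' i), fun i => -B v (e i), a), ?_⟩
    rw [hΨ, ← ha]
    unfold pr
    have : ∑ i, (fun i => -B v (e i)) i • e' i = -∑ i, B v (e i) • e' i := by
      rw [← Finset.sum_neg_distrib]
      exact Finset.sum_congr rfl fun i _ => by simp
    rw [this]
    abel
  refine ⟨m, ε, δ, LinearEquiv.ofBijective Ψ ⟨hinj, hsurj⟩, hε, hδ, hδ', fun x x' a y y' b => ?_⟩
  exact gram x x' a y y' b

end form

end Cfsg.Agent.H762.FC
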